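import Mathlib

/-!
# A ring-theoretic lemma on fibres in a pushout (helper5)

If `C = B ⊗_R A`, `q` is a prime of `B`, `I` an ideal of `C` such that no prime of `C` containing
`I` lies over `q`, then there are `s ∉ q`, finitely many `p_i ∈ q` and `a_i ∈ A` with
`s - ∑ a_i p_i ∈ I`.
-/

set_option autoImplicit false

namespace Groth.Agent.H5.LimFib

universe u

section
variable {R A B C : Type*} [CommRing R] [CommRing A] [CommRing B] [CommRing C]
  [Algebra R A] [Algebra R B] [Algebra A C] [Algebra B C] [Algebra R C]
  [IsScalarTower R A C] [IsScalarTower R B C]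

theorem algebraMap_mul_mem_span (q : Ideal B) (b : B) (x : C)
    (hx : x ∈ Submodule.span A ((algebraMap B C) '' (q : Set B))) :
    algebraMap B C b * x ∈ Submodule.span A ((algebraMap B C) '' (q : Set B)) := by
  induction hx using Submodule.span_induction with
  | mem x hx =>
    obtain ⟨p, hp, rfl⟩ := hx
    refine Submodule.subset_span ⟨b * p, q.mul_mem_left b hp, ?_⟩
    rw [map_mul]
  | zero => simp
  | add x y _ _ hx hy => rw [mul_add]; exact add_mem hx hy
  | smul a x _ hx =>
    rw [mul_smul_comm]
    exact Submodule.smul_mem _ a hx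

theorem mul_mem_span [Algebra.IsPushout R B A C] (q : Ideal B) (c x : C)
    (hx : x ∈ Submodule.span A ((algebraMap B C) '' (q : Set B))) :
    c * x ∈ Submodule.span A ((algebraMap B C) '' (q : Set B)) := by
  have h : IsBaseChange B (IsScalarTower.toAlgHom R A C).toLinearMap :=
    Algebra.IsPushout.out
  revert x
  refine h.inductionOn c (fun c => ∀ x, x ∈ Submodule.span A ((algebraMap B C) '' (q : Set B)) →
    c * x ∈ Submodule.span A ((algebraMap B C) '' (q : Set B))) ?_ ?_ ?_ ?_
  · intro x _; simp
  · intro a x hx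
    have : (IsScalarTower.toAlgHom R A C).toLinearMap a * x = a • x := by
      simp [Algebra.smul_def]
    rw [this]
    exact Submodule.smul_mem _ a hx
  · intro b c hc x hx
    rw [Algebra.smul_def, mul_assoc]
    exact algebraMap_mul_mem_span q b _ (hc x hx)
  · intro c₁ c₂ h₁ h₂ x hx
    rw [add_mul]
    exact add_mem (h₁ x hx) (h₂ x hx)

theorem mem_span_of_mem_map [Algebra.IsPushout R B A C] (q : Ideal B) (x : C)
    (hx : x ∈ q.map (algebraMap B C)) :
    x ∈ Submodule.span A ((algebraMap B C) '' (q : Set B)) := by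
  rw [Ideal.map] at hx
  induction hx using Submodule.span_induction with
  | mem x hx => exact Submodule.subset_span hx
  | zero => simp
  | add x y _ _ hx hy => exact add_mem hx hy
  | smul c x _ hx => exact mul_mem_span (R := R) q c x hx

/-- The key lemma. -/
theorem exists_sub_sum_mem [Algebra.IsPushout R B A C] (q : Ideal B) [q.IsPrime] (I : Ideal C)
    (h : ∀ P : Ideal C, P.IsPrime → I ≤ P → P.comap (algebraMap B C) ≠ q) :
    ∃ (s : B) (t : Finset B) (c : t → A), s ∉ q ∧ (↑t : Set B) ⊆ q ∧
      algebraMap B C s - ∑ i, algebraMap A C (c i) * algebraMap B C i ∈ I := by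
  classical
  set J : Ideal C := I ⊔ q.map (algebraMap B C) with hJ
  set M : Submonoid C := q.primeCompl.map (algebraMap B C) with hM
  by_cases hd : Disjoint (J : Set C) (M : Set C)
  · exfalso
    obtain ⟨P, hP, hJP, hPM⟩ := Ideal.exists_le_prime_disjoint J M hd
    refine h P hP (le_sup_left.trans hJP) ?_
    apply le_antisymm
    · intro b hb
      by_contra hbq
      exact (Set.disjoint_left.mp hPM) hb ⟨b, hbq, rfl⟩
    · intro b hb
      exact hJP (Ideal.mem_sup_right (Ideal.mem_map_of_mem _ hb))
  · rw [Set.not_disjoint_iff] at hd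
    obtain ⟨y, hyJ, ⟨s, hs, rfl⟩⟩ := hd
    obtain ⟨z, hz, x, hx, hzx⟩ := Submodule.mem_sup.mp hyJ
    have hx' := mem_span_of_mem_map (R := R) (A := A) q x hx
    obtain ⟨t, ht, c, hc⟩ := (Submodule.mem_span_image_iff_exists_fun A).mp hx'
    refine ⟨s, t, c, hs, ht, ?_⟩
    have : ∑ i, algebraMap A C (c i) * algebraMap B C i = x := by
      rw [← hc]
      refine Finset.sum_congr rfl fun i _ => ?_
      rw [Algebra.smul_def]
    rw [this, ← hzx]
    simpa using hz

end

end Groth.Agent.H5.LimFib
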