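import Mathlib
import Groth.Agent.Lib.Helper5.LimFib.LfA

/-!
# Charts of a fibre product and sections avoiding a closed set (helper5)
-/

set_option autoImplicit false

open CategoryTheory CategoryTheory.Limits AlgebraicGeometry

namespace Groth.Agent.H5.LimFib

universe u

theorem mem_basicOpen_iff_notMem_primeIdealOf {T : Scheme.{u}} {V : T.Opens} (hV : IsAffineOpen V)
    (x : V) (s : Γ(T, V)) : x.1 ∈ T.basicOpen s ↔ s ∉ (hV.primeIdealOf x).asIdeal := by
  rw [← hV.fromSpec_primeIdealOf x, ← Scheme.Hom.mem_preimage, hV.fromSpec_preimage_basicOpen]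
  exact PrimeSpectrum.mem_basicOpen _ _

variable {X S T : Scheme.{u}} (f : X ⟶ S) (g : T ⟶ S)

/-- The chart `U ×_S V` of the fibre product. -/
noncomputable def chart (U : X.Opens) (V : T.Opens) : (pullback f g).Opens :=
  pullback.fst f g ⁻¹ᵁ U ⊓ pullback.snd f g ⁻¹ᵁ V

theorem chart_le_fst (U : X.Opens) (V : T.Opens) : chart f g U V ≤ pullback.fst f g ⁻¹ᵁ U :=
  inf_le_left

theorem chart_le_snd (U : X.Opens) (V : T.Opens) : chart f g U V ≤ pullback.snd f g ⁻¹ᵁ V :=
  inf_le_right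

theorem isAffineOpen_chart {S₀ : S.Opens} (hS₀ : IsAffineOpen S₀) {U : X.Opens}
    (hU : IsAffineOpen U) {V : T.Opens} (hV : IsAffineOpen V) (hUS : U ≤ f ⁻¹ᵁ S₀)
    (hVS : V ≤ g ⁻¹ᵁ S₀) : IsAffineOpen (chart f g U V) := by
  have H : IsPullback (pullback.fst f g) (pullback.snd f g) f g := IsPullback.of_hasPullback f g
  have : IsAffine _ := hS₀
  have : IsAffine _ := hU
  have : IsAffine _ := hV
  exact .of_isIso (Scheme.Hom.isPullback_resLE H hVS hUS rfl).isoPullback.hom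

theorem isPushout_chart {S₀ : S.Opens} (hS₀ : IsAffineOpen S₀) {U : X.Opens}
    (hU : IsAffineOpen U) {V : T.Opens} (hV : IsAffineOpen V) (hUS : U ≤ f ⁻¹ᵁ S₀)
    (hVS : V ≤ g ⁻¹ᵁ S₀) :
    IsPushout (f.appLE S₀ U hUS) (g.appLE S₀ V hVS)
      ((pullback.fst f g).appLE U (chart f g U V) (chart_le_fst f g U V))
      ((pullback.snd f g).appLE V (chart f g U V) (chart_le_snd f g U V)) := by
  have H : IsPullback (pullback.fst f g) (pullback.snd f g) f g := IsPullback.of_hasPullback f g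
  have := isIso_pushoutSection_of_isAffineOpen H hVS hUS (rfl : chart f g U V = _) hS₀ hV hU
  exact (isIso_pushoutSection_iff H hVS hUS rfl).mp this

theorem exists_section {S₀ : S.Opens} (hS₀ : IsAffineOpen S₀) {U : X.Opens}
    (hU : IsAffineOpen U) {V : T.Opens} (hV : IsAffineOpen V) (hUS : U ≤ f ⁻¹ᵁ S₀)
    (hVS : V ≤ g ⁻¹ᵁ S₀) (t : T) (ht : t ∈ V) (Z : Set ↥(pullback f g)) (hZ : IsClosed Z)
    (hZt : ∀ z ∈ Z, pullback.snd f g z ≠ t) :
    ∃ (s : Γ(T, V)) (tt : Finset Γ(T, V)) (c : tt → Γ(X, U)),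
      t ∈ T.basicOpen s ∧ (∀ i ∈ tt, t ∉ T.basicOpen i) ∧
      Disjoint (((pullback f g).basicOpen
        ((pullback.snd f g).appLE V (chart f g U V) (chart_le_snd f g U V) s -
          ∑ i, (pullback.fst f g).appLE U (chart f g U V) (chart_le_fst f g U V) (c i) *
            (pullback.snd f g).appLE V (chart f g U V) (chart_le_snd f g U V) i) :
              (pullback f g).Opens) : Set ↥(pullback f g)) Z := by
  have hW : IsAffineOpen (chart f g U V) := isAffineOpen_chart f g hS₀ hU hV hUS hVS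
  have hpo := (isPushout_chart f g hS₀ hU hV hUS hVS).flip
  set α := (pullback.fst f g).appLE U (chart f g U V) (chart_le_fst f g U V) with hα
  set β := (pullback.snd f g).appLE V (chart f g U V) (chart_le_snd f g U V) with hβ
  algebraize [(g.appLE S₀ V hVS).hom, (f.appLE S₀ U hUS).hom, β.hom, α.hom,
    β.hom.comp (g.appLE S₀ V hVS).hom]
  have : IsScalarTower Γ(S, S₀) Γ(X, U) Γ(pullback f g, chart f g U V) :=
    .of_algebraMap_eq' <| congr($(hpo.1.1).hom)
  have hP : Algebra.IsPushout Γ(S, S₀) Γ(T, V) Γ(X, U) Γ(pullback f g, chart f g U V) :=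
    CommRingCat.isPushout_iff_isPushout.mp hpo
  set q : Ideal Γ(T, V) := (hV.primeIdealOf ⟨t, ht⟩).asIdeal with hq
  set I : Ideal Γ(pullback f g, chart f g U V) :=
    PrimeSpectrum.vanishingIdeal (hW.fromSpec ⁻¹' Z) with hI
  have hclosed : IsClosed (hW.fromSpec ⁻¹' Z) := hZ.preimage hW.fromSpec.continuous
  have key : ∀ P : Ideal Γ(pullback f g, chart f g U V), P.IsPrime → I ≤ P →
      P.comap (algebraMap Γ(T, V) Γ(pullback f g, chart f g U V)) ≠ q := by
    intro P hP hIP hPq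
    have hmem : hW.fromSpec (⟨P, hP⟩ : PrimeSpectrum _) ∈ Z := by
      have h0 := PrimeSpectrum.zeroLocus_vanishingIdeal_eq_closure
        (hW.fromSpec ⁻¹' Z : Set (PrimeSpectrum Γ(pullback f g, chart f g U V)))
      have h1 : (⟨P, hP⟩ : PrimeSpectrum _) ∈ PrimeSpectrum.zeroLocus
          ((PrimeSpectrum.vanishingIdeal (hW.fromSpec ⁻¹' Z :
            Set (PrimeSpectrum Γ(pullback f g, chart f g U V))) : Ideal _) : Set _) := hIP
      rw [h0] at h1
      exact hclosed.closure_subset h1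
    refine hZt _ hmem ?_
    have e1 : hW.fromSpec ≫ pullback.snd f g = Spec.map β ≫ hV.fromSpec :=
      (IsAffineOpen.SpecMap_appLE_fromSpec (pullback.snd f g) hV hW
        (chart_le_snd f g U V)).symm
    have e2 : pullback.snd f g (hW.fromSpec ⟨P, hP⟩) = hV.fromSpec (Spec.map β ⟨P, hP⟩) := by
      rw [← Scheme.Hom.comp_apply, e1, Scheme.Hom.comp_apply]
    rw [e2]
    have e3 : Spec.map β ⟨P, hP⟩ = hV.primeIdealOf ⟨t, ht⟩ := by
      apply PrimeSpectrum.ext
      exact hPq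
    rw [e3, hV.fromSpec_primeIdealOf]
  obtain ⟨s, tt, c, hs, htt, hz⟩ := exists_sub_sum_mem (R := Γ(S, S₀)) (A := Γ(X, U)) q I key
  refine ⟨s, tt, c, ?_, ?_, ?_⟩
  · exact (mem_basicOpen_iff_notMem_primeIdealOf hV ⟨t, ht⟩ s).mpr hs
  · intro i hi h
    exact (mem_basicOpen_iff_notMem_primeIdealOf hV ⟨t, ht⟩ i).mp h (htt hi)
  · rw [Set.disjoint_left]
    intro x hx hxZ
    have hxW : x ∈ chart f g U V := (pullback f g).basicOpen_le _ hx
    have h1 := (mem_basicOpen_iff_notMem_primeIdealOf hW ⟨x, hxW⟩ _).mp hx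
    apply h1
    have h2 : hW.primeIdealOf ⟨x, hxW⟩ ∈ hW.fromSpec ⁻¹' Z := by
      show hW.fromSpec (hW.primeIdealOf ⟨x, hxW⟩) ∈ Z
      rw [hW.fromSpec_primeIdealOf]
      exact hxZ
    exact (PrimeSpectrum.mem_vanishingIdeal _ _).mp hz _ h2

end Groth.Agent.H5.LimFib
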