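import Mathlib
import Groth.Agent.Lib.Helper5.LimFib.LfB

/-!
# Functoriality of the chart sections (helper5)
-/

set_option autoImplicit false

open CategoryTheory CategoryTheory.Limits AlgebraicGeometry

namespace Groth.Agent.H5.LimFib

universe u

theorem exists_mem_basicOpen_of_sum {Y : Scheme.{u}} {W : Y.Opens} {ι : Type*} (s : Finset ι)
    (h : ι → Γ(Y, W)) (x : Y) (hx : x ∈ Y.basicOpen (∑ i ∈ s, h i)) :
    ∃ i ∈ s, x ∈ Y.basicOpen (h i) := by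
  classical
  induction s using Finset.induction_on with
  | empty =>
    rw [Finset.sum_empty, Scheme.basicOpen_zero] at hx
    exact absurd hx (by simp)
  | insert j s hj ih =>
    rw [Finset.sum_insert hj] at hx
    rcases Y.basicOpen_add_le _ _ hx with h1 | h1
    · exact ⟨j, Finset.mem_insert_self _ _, h1⟩
    · obtain ⟨i, hi, hxi⟩ := ih h1
      exact ⟨i, Finset.mem_insert_of_mem hi, hxi⟩

theorem mem_basicOpen_sub_sum {Y : Scheme.{u}} {W : Y.Opens} {ι : Type*} (s : Finset ι)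
    (a : Γ(Y, W)) (w v : ι → Γ(Y, W)) (x : Y) (ha : x ∈ Y.basicOpen a)
    (hv : ∀ i ∈ s, x ∉ Y.basicOpen (v i)) : x ∈ Y.basicOpen (a - ∑ i ∈ s, w i * v i) := by
  have e : a = (a - ∑ i ∈ s, w i * v i) + ∑ i ∈ s, w i * v i := by ring
  rw [e] at ha
  rcases Y.basicOpen_add_le _ _ ha with h1 | h1
  · exact h1
  · exfalso
    obtain ⟨i, hi, hxi⟩ := exists_mem_basicOpen_of_sum s _ x h1
    rw [Scheme.basicOpen_mul] at hxi
    exact hv i hi hxi.2

theorem appLE_congr_hom {X Y : Scheme.{u}} {f f' : X ⟶ Y} (h : f = f') (U : Y.Opens)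
    (V : X.Opens) (e : V ≤ f ⁻¹ᵁ U) : f.appLE U V e = f'.appLE U V (h ▸ e) := by
  subst h; rfl

section
variable {X S T₁ T₂ : Scheme.{u}} (f : X ⟶ S) (g₁ : T₁ ⟶ S) (g₂ : T₂ ⟶ S) (a : T₁ ⟶ T₂)
  (m : pullback f g₁ ⟶ pullback f g₂)
  (hfst : m ≫ pullback.fst f g₂ = pullback.fst f g₁)
  (hsnd : m ≫ pullback.snd f g₂ = pullback.snd f g₁ ≫ a)
  (U : X.Opens) (V₁ : T₁.Opens) (V₂ : T₂.Opens) (hV : V₁ ≤ a ⁻¹ᵁ V₂)

include hfst hsnd hV in
theorem chart_le_preimage_chart : chart f g₁ U V₁ ≤ m ⁻¹ᵁ chart f g₂ U V₂ := by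
  intro x hx
  refine ⟨?_, ?_⟩
  · show pullback.fst f g₂ (m x) ∈ U
    rw [← Scheme.Hom.comp_apply, hfst]
    exact hx.1
  · show pullback.snd f g₂ (m x) ∈ V₂
    rw [← Scheme.Hom.comp_apply, hsnd, Scheme.Hom.comp_apply]
    exact hV hx.2

theorem appLE_fst (r : Γ(X, U)) :
    m.appLE (chart f g₂ U V₂) (chart f g₁ U V₁) (chart_le_preimage_chart f g₁ g₂ a m hfst hsnd U V₁ V₂ hV)
      ((pullback.fst f g₂).appLE U (chart f g₂ U V₂) (chart_le_fst f g₂ U V₂) r) =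
    (pullback.fst f g₁).appLE U (chart f g₁ U V₁) (chart_le_fst f g₁ U V₁) r := by
  rw [← CommRingCat.comp_apply, Scheme.Hom.appLE_comp_appLE, appLE_congr_hom hfst]

theorem appLE_snd (r : Γ(T₂, V₂)) :
    m.appLE (chart f g₂ U V₂) (chart f g₁ U V₁) (chart_le_preimage_chart f g₁ g₂ a m hfst hsnd U V₁ V₂ hV)
      ((pullback.snd f g₂).appLE V₂ (chart f g₂ U V₂) (chart_le_snd f g₂ U V₂) r) =
    (pullback.snd f g₁).appLE V₁ (chart f g₁ U V₁) (chart_le_snd f g₁ U V₁)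
      (a.appLE V₂ V₁ hV r) := by
  rw [← CommRingCat.comp_apply, ← CommRingCat.comp_apply, Scheme.Hom.appLE_comp_appLE,
    Scheme.Hom.appLE_comp_appLE, appLE_congr_hom hsnd]

theorem appLE_sub_sum {ι : Type*} (s : Finset ι) (r : Γ(T₂, V₂)) (c : ι → Γ(X, U))
    (p : ι → Γ(T₂, V₂)) :
    m.appLE (chart f g₂ U V₂) (chart f g₁ U V₁) (chart_le_preimage_chart f g₁ g₂ a m hfst hsnd U V₁ V₂ hV)
      ((pullback.snd f g₂).appLE V₂ (chart f g₂ U V₂) (chart_le_snd f g₂ U V₂) r -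
        ∑ i ∈ s, (pullback.fst f g₂).appLE U (chart f g₂ U V₂) (chart_le_fst f g₂ U V₂) (c i) *
          (pullback.snd f g₂).appLE V₂ (chart f g₂ U V₂) (chart_le_snd f g₂ U V₂) (p i)) =
    (pullback.snd f g₁).appLE V₁ (chart f g₁ U V₁) (chart_le_snd f g₁ U V₁)
        (a.appLE V₂ V₁ hV r) -
      ∑ i ∈ s, (pullback.fst f g₁).appLE U (chart f g₁ U V₁) (chart_le_fst f g₁ U V₁) (c i) *
        (pullback.snd f g₁).appLE V₁ (chart f g₁ U V₁) (chart_le_snd f g₁ U V₁)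
          (a.appLE V₂ V₁ hV (p i)) := by
  rw [map_sub, map_sum, appLE_snd f g₁ g₂ a m hfst hsnd U V₁ V₂ hV]
  congr 1
  refine Finset.sum_congr rfl fun i _ => ?_
  rw [map_mul, appLE_snd f g₁ g₂ a m hfst hsnd U V₁ V₂ hV,
    appLE_fst f g₁ g₂ a m hfst hsnd U V₁ V₂ hV]

end

end Groth.Agent.H5.LimFib
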