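import Mathlib
import Groth.Agent.Lib.Helper5.LimFib.LfC

/-!
# The auxiliary affine space `T'` (helper5)
-/

set_option autoImplicit false

open CategoryTheory CategoryTheory.Limits AlgebraicGeometry

namespace Groth.Agent.H5.LimFib

universe u

section
variable {S T : Scheme.{u}} (g : T ⟶ S) {S₀ : S.Opens} (hS₀ : IsAffineOpen S₀) {V : T.Opens}
  (hV : IsAffineOpen V) (hVS : V ≤ g ⁻¹ᵁ S₀) {σ : Type u} (v : σ → Γ(T, V))

/-- The evaluation map. -/
noncomputable def phi : MvPolynomial σ Γ(S, S₀) →+* Γ(T, V) :=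
  MvPolynomial.eval₂Hom (g.appLE S₀ V hVS).hom v

/-- The affine space over `S₀`. -/
noncomputable abbrev T' (S₀ : S.Opens) (σ : Type u) : Scheme.{u} :=
  Spec (CommRingCat.of (MvPolynomial σ Γ(S, S₀)))


/-- The structure map. -/
noncomputable def bMor (σ : Type u) : T' S₀ σ ⟶ S :=
  Spec.map (CommRingCat.ofHom (algebraMap Γ(S, S₀) (MvPolynomial σ Γ(S, S₀)))) ≫ hS₀.fromSpec

/-- The map from `V`. -/
noncomputable def aMor : (V : Scheme.{u}) ⟶ T' S₀ σ :=
  hV.isoSpec.hom ≫ Spec.map (CommRingCat.ofHom (phi g hVS v))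

/-- The coordinate functions. -/
noncomputable def yv (S₀ : S.Opens) {σ : Type u} (i : σ) : Γ(T' S₀ σ, ⊤) :=
  (Scheme.ΓSpecIso (CommRingCat.of (MvPolynomial σ Γ(S, S₀)))).inv (MvPolynomial.X i)

theorem aMor_bMor : aMor g hV hVS v ≫ bMor hS₀ σ = V.ι ≫ g := by
  unfold aMor bMor
  rw [Category.assoc, ← Spec.map_comp_assoc]
  have : CommRingCat.ofHom (algebraMap Γ(S, S₀) (MvPolynomial σ Γ(S, S₀))) ≫
      CommRingCat.ofHom (phi g hVS v) = g.appLE S₀ V hVS := by
    ext r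
    simp [phi, MvPolynomial.algebraMap_eq]
  rw [this, IsAffineOpen.SpecMap_appLE_fromSpec g hS₀ hV hVS, hV.isoSpec_hom_fromSpec_assoc]

instance [Finite σ] : LocallyOfFinitePresentation (bMor hS₀ σ) := by
  unfold bMor
  have : LocallyOfFinitePresentation
      (Spec.map (CommRingCat.ofHom (algebraMap Γ(S, S₀) (MvPolynomial σ Γ(S, S₀))))) := by
    rw [HasRingHomProperty.Spec_iff (P := @LocallyOfFinitePresentation)]
    simp only [CommRingCat.hom_ofHom]
    rw [RingHom.finitePresentation_algebraMap]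
    infer_instance
  infer_instance

theorem bMor_mem (x : T' S₀ σ) : bMor hS₀ σ x ∈ S₀ := by
  unfold bMor
  rw [Scheme.Hom.comp_apply]
  have := hS₀.range_fromSpec
  rw [← SetLike.mem_coe, ← this]
  exact Set.mem_range_self _

theorem aMor_appLE (i : σ) :
    (aMor g hV hVS v).appLE ⊤ ⊤ le_top (yv S₀ i) =
      V.ι.appLE V ⊤ (by simp) (v i) := by
  have e0 : (aMor g hV hVS v).appLE ⊤ ⊤ le_top = (aMor g hV hVS v).appTop :=
    Scheme.Hom.appLE_eq_app (f := aMor g hV hVS v) (U := ⊤)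
  rw [e0]
  unfold aMor yv
  rw [Scheme.Hom.comp_appTop, hV.isoSpec_hom_appTop]
  have e1 := Scheme.ΓSpecIso_inv_naturality (CommRingCat.ofHom (phi g hVS v))
  have e2 : (Spec.map (CommRingCat.ofHom (phi g hVS v))).appTop
      ((Scheme.ΓSpecIso (CommRingCat.of (MvPolynomial σ Γ(S, S₀)))).inv (MvPolynomial.X i)) =
      (Scheme.ΓSpecIso (CommRingCat.of Γ(T, V))).inv (v i) := by
    have := congr($(e1).hom (MvPolynomial.X i))
    simp only [CommRingCat.hom_comp, RingHom.comp_apply, CommRingCat.hom_ofHom] at this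
    rw [← this]
    simp [phi]
  simp only [CommRingCat.comp_apply]
  rw [e2]
  simp only [Scheme.Opens.ι_appLE, Scheme.Opens.topIso_inv]
  have : (Scheme.ΓSpecIso Γ(T, V)).hom ((Scheme.ΓSpecIso (CommRingCat.of Γ(T, V))).inv (v i)) = v i :=
    congr($((Scheme.ΓSpecIso Γ(T, V)).inv_hom_id).hom (v i))
  rw [this]
  rfl

theorem aMor_mem_basicOpen_iff (x : V) (i : σ) :
    aMor g hV hVS v x ∈ (T' S₀ σ).basicOpen (yv S₀ i) ↔ x.1 ∈ T.basicOpen (v i) := by
  rw [← Scheme.Hom.mem_preimage, Scheme.preimage_basicOpen_top]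
  have e0 : (aMor g hV hVS v).appLE ⊤ ⊤ le_top = (aMor g hV hVS v).appTop :=
    Scheme.Hom.appLE_eq_app (f := aMor g hV hVS v) (U := ⊤)
  rw [← e0, aMor_appLE, Scheme.basicOpen_appLE]
  constructor
  · rintro ⟨-, h⟩
    exact h
  · intro h
    exact ⟨trivial, h⟩

end

end Groth.Agent.H5.LimFib
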