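import Mathlib
import Groth.Agent.Lib.Helper5.LimFib.LfD

/-!
# Spreading out a closed subset avoiding a fibre (helper5)
-/

set_option autoImplicit false

open CategoryTheory CategoryTheory.Limits AlgebraicGeometry

namespace Groth.Agent.H5.LimFib

universe u

set_option maxHeartbeats 1600000 in
theorem main {X S T : Scheme.{u}} (f : X ⟶ S) [QuasiCompact f] (g : T ⟶ S) (t : T)
    (Z : Set ↥(pullback f g)) (hZ : IsClosed Z)
    (hZt : ∀ z ∈ Z, (pullback.snd f g).base z ≠ t) :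
    ∃ (V : T.Opens) (ht : t ∈ V) (T' : Scheme.{u}) (b : T' ⟶ S) (a : (V : Scheme.{u}) ⟶ T')
      (n : pullback f (V.ι ≫ g) ⟶ pullback f g) (m : pullback f (V.ι ≫ g) ⟶ pullback f b)
      (Z' : Set ↥(pullback f b)),
      IsAffineOpen V ∧ IsAffine T' ∧ LocallyOfFinitePresentation b ∧ a ≫ b = V.ι ≫ g ∧
      n ≫ pullback.fst f g = pullback.fst f (V.ι ≫ g) ∧
      n ≫ pullback.snd f g = pullback.snd f (V.ι ≫ g) ≫ V.ι ∧
      m ≫ pullback.fst f b = pullback.fst f (V.ι ≫ g) ∧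
      m ≫ pullback.snd f b = pullback.snd f (V.ι ≫ g) ≫ a ∧
      IsClosed Z' ∧ (∀ z' ∈ Z', (pullback.snd f b).base z' ≠ a.base ⟨t, ht⟩) ∧
      ∀ z : ↥(pullback f (V.ι ≫ g)), n.base z ∈ Z → m.base z ∈ Z' := by
  classical
  obtain ⟨_, ⟨(S₀ : S.Opens), hS₀, rfl⟩, hgt, -⟩ :=
    S.isBasis_affineOpens.exists_subset_of_mem_open (Set.mem_univ (g t)) isOpen_univ
  obtain ⟨_, ⟨(V : T.Opens), hV, rfl⟩, htV, hVS'⟩ :=
    T.isBasis_affineOpens.exists_subset_of_mem_open (show t ∈ (g ⁻¹ᵁ S₀ : Set T) from hgt)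
      (g ⁻¹ᵁ S₀).isOpen
  have hVS : V ≤ g ⁻¹ᵁ S₀ := hVS'
  have hc : IsCompact (f ⁻¹ᵁ S₀ : Set X) :=
    quasiCompact_iff_forall_isAffineOpen.mp inferInstance S₀ hS₀
  obtain ⟨𝒰, h𝒰fin, h𝒰⟩ := isCompact_iff_finite_and_eq_biUnion_affineOpens.mp hc
  haveI : Finite 𝒰 := h𝒰fin.to_subtype
  have hUS : ∀ U : 𝒰, (U.1 : X.Opens) ≤ f ⁻¹ᵁ S₀ := fun U => by
    rw [h𝒰]
    exact le_iSup₂ (f := fun (i : X.affineOpens) (_ : i ∈ 𝒰) => (i : X.Opens)) U.1 U.2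
  have hsec := fun U : 𝒰 =>
    exists_section f g hS₀ U.1.2 hV (hUS U) hVS t htV Z hZ hZt
  choose s tt c hs htt hdisj using hsec
  set Fs : Set Γ(T, V) := ⋃ U : 𝒰, insert (s U) (tt U : Set Γ(T, V)) with hFsdef
  have hFs : Fs.Finite := Set.finite_iUnion (fun U => (tt U).finite_toSet.insert _)
  have hsF : ∀ U : 𝒰, s U ∈ Fs := fun U =>
    Set.mem_iUnion.mpr ⟨U, Set.mem_insert _ _⟩
  have httF : ∀ (U : 𝒰) (i : tt U), i.1 ∈ Fs := fun U i =>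
    Set.mem_iUnion.mpr ⟨U, Set.mem_insert_of_mem _ i.2⟩
  haveI : Finite Fs := hFs.to_subtype
  let v : Fs → Γ(T, V) := Subtype.val
  set a := aMor g hV hVS v with ha
  set b := bMor hS₀ Fs with hb
  have hab : a ≫ b = V.ι ≫ g := aMor_bMor g hS₀ hV hVS v
  let n : pullback f (V.ι ≫ g) ⟶ pullback f g :=
    pullback.map f (V.ι ≫ g) f g (𝟙 X) V.ι (𝟙 S) (by simp) (by simp)
  let m : pullback f (V.ι ≫ g) ⟶ pullback f b :=
    pullback.map f (V.ι ≫ g) f b (𝟙 X) a (𝟙 S) (by simp) (by simp [hab])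
  have hn1 : n ≫ pullback.fst f g = pullback.fst f (V.ι ≫ g) :=
    (pullback.lift_fst _ _ _).trans (Category.comp_id _)
  have hn2 : n ≫ pullback.snd f g = pullback.snd f (V.ι ≫ g) ≫ V.ι :=
    pullback.lift_snd _ _ _
  have hm1 : m ≫ pullback.fst f b = pullback.fst f (V.ι ≫ g) :=
    (pullback.lift_fst _ _ _).trans (Category.comp_id _)
  have hm2 : m ≫ pullback.snd f b = pullback.snd f (V.ι ≫ g) ≫ a :=
    pullback.lift_snd _ _ _
  let z' : ∀ U : 𝒰, Γ(pullback f b, chart f b U.1.1 ⊤) := fun U =>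
    (pullback.snd f b).appLE ⊤ (chart f b U.1.1 ⊤) (chart_le_snd f b U.1.1 ⊤)
        (yv S₀ ⟨s U, hsF U⟩) -
      ∑ i : tt U, (pullback.fst f b).appLE U.1.1 (chart f b U.1.1 ⊤) (chart_le_fst f b U.1.1 ⊤)
          (c U i) *
        (pullback.snd f b).appLE ⊤ (chart f b U.1.1 ⊤) (chart_le_snd f b U.1.1 ⊤)
          (yv S₀ ⟨i.1, httF U i⟩)
  refine ⟨V, htV, T' S₀ Fs, b, a, n, m,
    ((⨆ U : 𝒰, (pullback f b).basicOpen (z' U) : (pullback f b).Opens) : Set _)ᶜ,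
    hV, inferInstance, inferInstance, hab, hn1, hn2, hm1, hm2, ?_, ?_, ?_⟩
  · exact (TopologicalSpace.Opens.isOpen _).isClosed_compl
  · intro x' hx' heq
    apply hx'
    have h1 : f (pullback.fst f b x') ∈ S₀ := by
      have := congr($(pullback.condition (f := f) (g := b)) x')
      rw [Scheme.Hom.comp_apply, Scheme.Hom.comp_apply] at this
      rw [this]
      exact bMor_mem hS₀ _
    have h2 : pullback.fst f b x' ∈ f ⁻¹ᵁ S₀ := h1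
    rw [h𝒰] at h2
    obtain ⟨U₀, hU₀⟩ := TopologicalSpace.Opens.mem_iSup.mp h2
    obtain ⟨hU₀𝒰, hxU₀⟩ := TopologicalSpace.Opens.mem_iSup.mp hU₀
    refine TopologicalSpace.Opens.mem_iSup.mpr ⟨⟨U₀, hU₀𝒰⟩, ?_⟩
    have hxW : x' ∈ chart f b U₀.1 ⊤ := ⟨hxU₀, trivial⟩
    refine mem_basicOpen_sub_sum Finset.univ _ _ _ x' ?_ ?_
    · rw [Scheme.basicOpen_appLE]
      refine ⟨hxW, ?_⟩
      show pullback.snd f b x' ∈ (T' S₀ Fs).basicOpen (yv S₀ ⟨s ⟨U₀, hU₀𝒰⟩, hsF _⟩)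
      rw [show pullback.snd f b x' = a ⟨t, htV⟩ from heq]
      exact (aMor_mem_basicOpen_iff g hV hVS v ⟨t, htV⟩ _).mpr (hs _)
    · intro i _ hmem
      rw [Scheme.basicOpen_appLE] at hmem
      have h3 : pullback.snd f b x' ∈ (T' S₀ Fs).basicOpen (yv S₀ ⟨i.1, httF _ i⟩) := hmem.2
      rw [show pullback.snd f b x' = a ⟨t, htV⟩ from heq] at h3
      exact htt _ i.1 i.2 ((aMor_mem_basicOpen_iff g hV hVS v ⟨t, htV⟩ _).mp h3)
  · intro x hx hmem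
    obtain ⟨U, hU⟩ := TopologicalSpace.Opens.mem_iSup.mp hmem
    have hmW : m x ∈ chart f b U.1.1 ⊤ := (pullback f b).basicOpen_le _ hU
    have hxW : x ∈ chart f (V.ι ≫ g) U.1.1 ⊤ := by
      refine ⟨?_, trivial⟩
      show pullback.fst f (V.ι ≫ g) x ∈ U.1.1
      rw [← hm1, Scheme.Hom.comp_apply]
      exact hmW.1
    have hVtop : (⊤ : (V : Scheme.{u}).Opens) ≤ V.ι ⁻¹ᵁ V := by simp
    have E1 := appLE_sub_sum f (V.ι ≫ g) b a m hm1 hm2 U.1.1 ⊤ ⊤ le_top Finset.univ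
      (yv S₀ ⟨s U, hsF U⟩) (c U) (fun i => yv S₀ ⟨i.1, httF U i⟩)
    have E2 := appLE_sub_sum f (V.ι ≫ g) g V.ι n hn1 hn2 U.1.1 ⊤ V hVtop Finset.univ
      (s U) (c U) (fun i => i.1)
    simp only [ha, aMor_appLE g hV hVS v] at E1
    have E3 := E1.trans E2.symm
    have h4 : x ∈ (pullback f (V.ι ≫ g)).basicOpen
        (m.appLE (chart f b U.1.1 ⊤) (chart f (V.ι ≫ g) U.1.1 ⊤)
          (chart_le_preimage_chart f (V.ι ≫ g) b a m hm1 hm2 U.1.1 ⊤ ⊤ le_top) (z' U)) := by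
      rw [Scheme.basicOpen_appLE]
      exact ⟨hxW, hU⟩
    rw [E3, Scheme.basicOpen_appLE] at h4
    exact Set.disjoint_left.mp (hdisj U) h4.2 hx

end Groth.Agent.H5.LimFib
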